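import Groth.Agent.Lib.KrullAkizuki.DVR
import Mathlib.RingTheory.DedekindDomain.PID
import Mathlib.RingTheory.QuasiFinite.Basic
import Mathlib.RingTheory.OrderOfVanishing.Basic
import Mathlib.Algebra.Module.SpanRankOperations
import Mathlib.Algebra.MvPolynomial.Funext
import Mathlib.RingTheory.KrullDimension.Field
import Mathlib.LinearAlgebra.Dimension.OrzechProperty
import Mathlib.Tactic

/-!
# Lattices over one-dimensional local domains with algebraically closed residue field
-/

set_option autoImplicit false
set_option linter.style.haveILetI false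
universe u

open IsLocalRing TensorProduct

namespace Groth.Agent.TFLat17

section semilocal

variable {O B : Type u} [CommRing O] [IsLocalRing O] [CommRing B] [Algebra O B] [Module.Finite O B]

/-- The residue fields of a finite algebra over a local ring with algebraically closed residue field. -/
theorem surjective_residue [IsAlgClosed (ResidueField O)] (q : Ideal B) [q.IsMaximal] :
    Function.Surjective (algebraMap O (B ⧸ q)) := by
  letI := Ideal.Quotient.field q
  have hq : maximalIdeal O ≤ RingHom.ker (algebraMap O (B ⧸ q)) := by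
    intro a ha
    rw [RingHom.mem_ker]
    show Ideal.Quotient.mk q (algebraMap O B a) = 0
    rw [Ideal.Quotient.eq_zero_iff_mem, ← Ideal.mem_comap]
    haveI : (q.comap (algebraMap O B)).IsMaximal := Ideal.isMaximal_comap_of_isIntegral_of_isMaximal q
    rw [IsLocalRing.eq_maximalIdeal ‹(q.comap (algebraMap O B)).IsMaximal›]
    exact ha
  let f : ResidueField O →+* B ⧸ q :=
    Ideal.Quotient.lift (maximalIdeal O) (algebraMap O (B ⧸ q)) fun a ha => RingHom.mem_ker.1 (hq ha)
  letI : Algebra (ResidueField O) (B ⧸ q) := f.toAlgebra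
  haveI : IsScalarTower O (ResidueField O) (B ⧸ q) := IsScalarTower.of_algebraMap_eq fun _ => rfl
  haveI : Module.Finite (ResidueField O) (B ⧸ q) := Module.Finite.of_restrictScalars_finite O _ _
  have hb : Function.Bijective f :=
    IsAlgClosed.algebraMap_bijective_of_isIntegral (k := ResidueField O) (K := B ⧸ q)
  intro b
  obtain ⟨a, ha⟩ := hb.2 b
  obtain ⟨a, rfl⟩ := IsLocalRing.residue_surjective a
  exact ⟨a, ha⟩

variable (O) in
include O in
theorem finite_maximals : {I : Ideal B | I.IsMaximal}.Finite := by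
  refine (Algebra.QuasiFinite.finite_primesOver (R := O) (S := B) (maximalIdeal O)).subset fun q hq => ?_
  haveI : q.IsMaximal := hq
  haveI : (q.comap (algebraMap O B)).IsMaximal := Ideal.isMaximal_comap_of_isIntegral_of_isMaximal q
  exact ⟨hq.isPrime, ⟨(IsLocalRing.eq_maximalIdeal ‹(q.comap (algebraMap O B)).IsMaximal›).symm⟩⟩

/-- Enough `O`-combinations of a spanning family form a basis over a semilocal finite extension. -/
theorem exists_isUnit_det [IsAlgClosed (ResidueField O)] {n s : ℕ} (V : Matrix (Fin s) (Fin n) B)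
    (D : Matrix (Fin n) (Fin s) B) (hD : D * V = 1) :
    ∃ C : Matrix (Fin n) (Fin s) O, IsUnit ((C.map (algebraMap O B)) * V).det := by
  classical
  haveI : Finite {I : Ideal B | I.IsMaximal} := (finite_maximals O).to_subtype
  haveI := Fintype.ofFinite {I : Ideal B | I.IsMaximal}
  have hlift : ∀ q : {I : Ideal B | I.IsMaximal}, ∃ (Cq : Matrix (Fin n) (Fin s) O) (Vq : Matrix (Fin s) (Fin n) O),
      ((Cq * Vq).det ∉ maximalIdeal O) ∧ ∀ a i, V a i - algebraMap O B (Vq a i) ∈ (q : Ideal B) := by
    intro q
    haveI : (q : Ideal B).IsMaximal := q.2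
    have hs := surjective_residue (O := O) (q : Ideal B)
    choose vq hvq using fun (a : Fin s) (i : Fin n) => hs (Ideal.Quotient.mk _ (V a i))
    choose cq hcq using fun (i : Fin n) (a : Fin s) => hs (Ideal.Quotient.mk _ (D i a))
    refine ⟨Matrix.of cq, Matrix.of vq, fun hmem => ?_, fun a i => ?_⟩
    · have h : (Matrix.of cq * Matrix.of vq).map (algebraMap O (B ⧸ (q : Ideal B))) = 1 := by
        rw [Matrix.map_mul,
          show (Matrix.of cq).map (algebraMap O (B ⧸ (q : Ideal B))) = D.map (Ideal.Quotient.mk _) from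
            Matrix.ext fun i a => hcq i a,
          show (Matrix.of vq).map (algebraMap O (B ⧸ (q : Ideal B))) = V.map (Ideal.Quotient.mk _) from
            Matrix.ext fun a i => hvq a i,
          ← Matrix.map_mul, hD, Matrix.map_one _ (map_zero _) (map_one _)]
      have h1 : algebraMap O (B ⧸ (q : Ideal B)) (Matrix.of cq * Matrix.of vq).det = 1 := by
        have := congrArg Matrix.det h
        rw [Matrix.det_one] at this
        rw [RingHom.map_det]
        exact this
      have h0 : algebraMap O (B ⧸ (q : Ideal B)) (Matrix.of cq * Matrix.of vq).det = 0 := by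
        show Ideal.Quotient.mk (q : Ideal B) (algebraMap O B _) = 0
        rw [Ideal.Quotient.eq_zero_iff_mem, ← Ideal.mem_comap]
        haveI : ((q : Ideal B).comap (algebraMap O B)).IsMaximal := Ideal.isMaximal_comap_of_isIntegral_of_isMaximal _
        rw [IsLocalRing.eq_maximalIdeal ‹((q : Ideal B).comap (algebraMap O B)).IsMaximal›]
        exact hmem
      exact zero_ne_one (h0.symm.trans h1)
    · rw [← Ideal.Quotient.eq]
      exact (hvq a i).symm
  choose Cq Vq hCV hVq using hlift
  let k := ResidueField O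
  let P : {I : Ideal B | I.IsMaximal} → MvPolynomial (Fin n × Fin s) k := fun q =>
    ((Matrix.of fun i a => MvPolynomial.X (i, a)) * ((Vq q).map (residue O)).map MvPolynomial.C).det
  have heval : ∀ (q : {I : Ideal B | I.IsMaximal}) (C : Matrix (Fin n) (Fin s) O),
      MvPolynomial.eval (fun ia => residue O (C ia.1 ia.2)) (P q) = residue O (C * Vq q).det := by
    intro q C
    rw [RingHom.map_det, RingHom.map_det]
    congr 1
    ext i j
    simp [Matrix.mul_apply]
  have hP : ∀ q, P q ≠ 0 := fun q h => hCV q (by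
    rw [← residue_eq_zero_iff, ← heval, h, map_zero])
  have hprod : ∏ q, P q ≠ 0 := Finset.prod_ne_zero_iff.2 fun q _ => hP q
  haveI : Infinite k := IsAlgClosed.instInfinite
  obtain ⟨x, hx⟩ : ∃ x, MvPolynomial.eval x (∏ q, P q) ≠ 0 := by
    by_contra! h
    exact hprod (MvPolynomial.funext fun x => by rw [h x, map_zero])
  choose c hc using fun (i : Fin n) (a : Fin s) => residue_surjective (R := O) (x (i, a))
  refine ⟨Matrix.of c, ?_⟩
  by_contra hnu
  obtain ⟨M, hM, hmem⟩ := exists_max_ideal_of_mem_nonunits hnu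
  let q : {I : Ideal B | I.IsMaximal} := ⟨M, hM⟩
  refine hx ?_
  rw [map_prod]
  refine Finset.prod_eq_zero (Finset.mem_univ q) ?_
  rw [show x = fun ia => residue O ((Matrix.of c) ia.1 ia.2) from funext fun ia => (hc ia.1 ia.2).symm, heval,
    residue_eq_zero_iff]
  by_contra hno
  have hu : IsUnit (Matrix.of c * Vq q).det := not_not.1 fun h => hno ((mem_maximalIdeal _).2 h)
  have h1 : ((Matrix.of c).map (algebraMap O B) * V).det - algebraMap O B (Matrix.of c * Vq q).det ∈ M := by
    rw [← Ideal.Quotient.eq, RingHom.map_det, RingHom.map_det, RingHom.map_det]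
    congr 1
    simp only [RingHom.mapMatrix_apply, Matrix.map_mul]
    congr 1
    exact Matrix.ext fun a i => (Ideal.Quotient.eq.2 (hVq q a i))
  exact hM.ne_top (Ideal.eq_top_of_isUnit_mem _ ((Submodule.sub_mem_iff_right _ hmem).1 h1) (hu.map _))

end semilocal

variable {O : Type u} [CommRing O] [IsDomain O] [IsNoetherianRing O] [IsLocalRing O]
  {K : Type u} [Field K] [Algebra O K] [IsFractionRing O K]

theorem isPID_integralClosure (hdim : ringKrullDim O = 1) (hfin : Module.Finite O ↥(integralClosure O K)) :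
    IsDomain ↥(integralClosure O K) ∧ IsPrincipalIdealRing ↥(integralClosure O K) := by
  haveI : Ring.KrullDimLE 1 O := Ring.krullDimLE_iff.2 (by rw [hdim]; simp)
  haveI := KrullAkizuki.isDedekindDomain_integralClosure O K K
  exact ⟨inferInstance, IsPrincipalIdealRing.of_finite_maximals (finite_maximals O)⟩

variable (O) in
theorem isFractionRing_integralClosure : IsFractionRing ↥(integralClosure O K) K :=
  integralClosure.isFractionRing_of_finite_extension K K

/-- A full lattice can be moved between the standard one and the normalised one. -/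
theorem exists_frame (hdim : ringKrullDim O = 1) [IsAlgClosed (ResidueField O)]
    (hfin : Module.Finite O ↥(integralClosure O K)) {n : ℕ} (M : Submodule O (Fin n → K)) (hM : M.FG)
    (hspan : Submodule.span K (M : Set (Fin n → K)) = ⊤) :
    ∃ ψ : (Fin n → K) ≃ₗ[K] (Fin n → K),
      Submodule.pi Set.univ (fun _ : Fin n => (1 : Submodule O K)) ≤ M.map (ψ.toLinearMap.restrictScalars O) ∧
      M.map (ψ.toLinearMap.restrictScalars O) ≤
        Submodule.pi Set.univ (fun _ : Fin n => Subalgebra.toSubmodule (integralClosure O K)) := by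
  classical
  obtain ⟨hdom, hpid⟩ := isPID_integralClosure (K := K) hdim hfin
  haveI := hfin; haveI := hdom; haveI := hpid
  haveI := isFractionRing_integralClosure O (K := K)
  let B := ↥(integralClosure O K)
  obtain ⟨s, g, hg⟩ := Submodule.fg_iff_exists_fin_generating_family.1 hM
  let Λ : Submodule B (Fin n → K) := Submodule.span B (Set.range g)
  haveI : Module.Finite B Λ := Module.Finite.iff_fg.2 (Submodule.fg_span (Set.finite_range g))
  haveI : NoZeroSMulDivisors B Λ := ⟨fun {b v} h => by
    by_cases hb : b = 0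
    · exact Or.inl hb
    refine Or.inr (Subtype.ext ?_)
    have h' := congrArg Subtype.val h
    rw [Submodule.coe_smul, ← IsScalarTower.algebraMap_smul K b, Submodule.coe_zero, smul_eq_zero] at h'
    exact h'.resolve_left ((map_ne_zero_iff _ (IsFractionRing.injective B K)).2 hb)⟩
  obtain ⟨m, b⟩ := Module.basisOfFiniteTypeTorsionFree' (R := B) (M := Λ)
  let v : Fin m → (Fin n → K) := fun i => (b i : Fin n → K)
  have hgv : ∀ a, g a = ∑ i, b.repr ⟨g a, Submodule.subset_span ⟨a, rfl⟩⟩ i • v i := fun a => by
    have h := congrArg Subtype.val (b.sum_repr ⟨g a, Submodule.subset_span ⟨a, rfl⟩⟩)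
    simp only [Submodule.coe_sum, Submodule.coe_smul] at h
    exact h.symm
  have hli : LinearIndependent K v :=
    (LinearIndependent.iff_fractionRing B K).1 (b.linearIndependent.map' Λ.subtype (Submodule.ker_subtype Λ))
  have hvspan : ⊤ ≤ Submodule.span K (Set.range v) := by
    rw [← hspan, Submodule.span_le, ← hg]
    intro w hw
    refine (Submodule.span_le (s := Set.range g) (p := (Submodule.span K (Set.range v)).restrictScalars O)).2 ?_ hw
    rintro _ ⟨a, rfl⟩
    rw [SetLike.mem_coe, Submodule.restrictScalars_mem, hgv a]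
    refine Submodule.sum_mem _ fun i _ => ?_
    rw [← IsScalarTower.algebraMap_smul K (b.repr _ i)]
    exact Submodule.smul_mem _ _ (Submodule.subset_span ⟨i, rfl⟩)
  let bK : Module.Basis (Fin m) K (Fin n → K) := Module.Basis.mk hli hvspan
  have hmn : m = n := by
    have h := Module.finrank_eq_card_basis bK
    simpa using h.symm
  subst hmn
  let V : Matrix (Fin s) (Fin m) B := Matrix.of fun a i => b.repr ⟨g a, Submodule.subset_span ⟨a, rfl⟩⟩ i
  have hD : ∀ i, ∃ c : Fin s → B, ∑ a, c a • g a = v i := fun i =>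
    (Submodule.mem_span_range_iff_exists_fun B).1 (b i).2
  choose c hc using hD
  have hDV : Matrix.of c * V = 1 := by
    have key : ∀ i, b i = ∑ j, (Matrix.of c * V) i j • b j := fun i => Subtype.ext (by
      simp only [Submodule.coe_sum, Submodule.coe_smul, Matrix.mul_apply, Matrix.of_apply, V, Finset.sum_smul,
        mul_smul]
      rw [Finset.sum_comm]
      simp only [← Finset.smul_sum]
      exact (hc i).symm.trans (Finset.sum_congr rfl fun a _ => congrArg _ (hgv a)))
    ext i j
    have h := congrArg (fun x => b.repr x j) (key i)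
    simp only [Module.Basis.repr_self, Module.Basis.repr_sum_self] at h
    rw [← h, Matrix.one_apply, Finsupp.single_apply]
  obtain ⟨C, hC⟩ := exists_isUnit_det (O := O) V (Matrix.of c) hDV
  let T : Matrix (Fin m) (Fin m) B := C.map (algebraMap O B) * V
  let bK' : Fin m → (Fin m → K) := fun i => ∑ a, C i a • g a
  have hT : ∀ i, bK' i = ∑ j, T i j • v j := fun i => by
    simp only [bK', T, Matrix.mul_apply, Finset.sum_smul]
    rw [Finset.sum_comm]
    refine Finset.sum_congr rfl fun a _ => ?_
    simp only [Matrix.map_apply, mul_smul, ← Finset.smul_sum, algebraMap_smul]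
    exact congrArg _ (hgv a)
  have hinv : ∀ j, v j = ∑ i, T⁻¹ j i • bK' i := fun j => by
    simp only [hT, Finset.smul_sum, ← mul_smul]
    rw [Finset.sum_comm]
    simp only [← Finset.sum_smul]
    rw [show (fun l => (∑ i, T⁻¹ j i * T i l) • v l) = fun l => (1 : Matrix (Fin m) (Fin m) B) j l • v l from
      funext fun l => by rw [← Matrix.mul_apply, Matrix.nonsing_inv_mul _ hC]]
    simp [Matrix.one_apply, ite_smul]
  have hsp' : ⊤ ≤ Submodule.span K (Set.range bK') := by
    refine hvspan.trans (Submodule.span_le.2 ?_)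
    rintro _ ⟨j, rfl⟩
    rw [hinv j, SetLike.mem_coe]
    refine Submodule.sum_mem _ fun i _ => ?_
    rw [← IsScalarTower.algebraMap_smul K (T⁻¹ j i)]
    exact Submodule.smul_mem _ _ (Submodule.subset_span ⟨i, rfl⟩)
  let bK'' : Module.Basis (Fin m) K (Fin m → K) :=
    Module.Basis.mk (linearIndependent_of_top_le_span_of_card_eq_finrank hsp' (by simp)) hsp'
  have hbK'' : ∀ i, bK'' i = bK' i := fun i => Module.Basis.mk_apply _ _ i
  let ψ := bK''.equivFun
  have hψ : ∀ i, ψ (bK' i) = Pi.single i 1 := fun i => by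
    rw [← hbK'']
    ext j
    simp [ψ, Module.Basis.equivFun_apply, Pi.single_apply, Finsupp.single_apply, eq_comm]
  refine ⟨ψ, fun x hx => ?_, ?_⟩
  · rw [Submodule.mem_pi] at hx
    choose a ha using fun i => Submodule.mem_one.1 (hx i trivial)
    refine ⟨∑ i, a i • bK' i, Submodule.sum_mem _ fun i _ => M.smul_mem _ ?_, ?_⟩
    · exact Submodule.sum_mem _ fun a' _ => M.smul_mem _ (hg ▸ Submodule.subset_span ⟨a', rfl⟩)
    · have hterm : ∀ i, ψ (a i • bK' i) = a i • (Pi.single i 1 : Fin m → K) := fun i => by
        rw [← algebraMap_smul K (a i) (bK' i), map_smul, hψ, algebraMap_smul]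
      show ψ (∑ i, a i • bK' i) = x
      rw [map_sum, Finset.sum_congr rfl fun i _ => hterm i]
      ext j
      simp [Finset.sum_apply, Pi.single_apply, Algebra.smul_def, ha]
  · rw [← hg, Submodule.map_span, Submodule.span_le]
    rintro _ ⟨_, ⟨a, rfl⟩, rfl⟩
    rw [SetLike.mem_coe, Submodule.mem_pi]
    intro j _
    have hga : g a = ∑ i, (∑ l, V a l * T⁻¹ l i) • bK' i := by
      simp only [Finset.sum_smul, mul_smul]
      rw [Finset.sum_comm]
      simp only [← Finset.smul_sum, ← hinv]
      exact hgv a
    show ψ (g a) j ∈ integralClosure O K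
    rw [hga, map_sum, Finset.sum_apply]
    refine Subalgebra.sum_mem _ fun i _ => ?_
    rw [← IsScalarTower.algebraMap_smul K (∑ l, V a l * T⁻¹ l i) (bK' i), map_smul, hψ, Pi.smul_apply,
      Pi.single_apply, smul_eq_mul]
    split_ifs
    · rw [mul_one]; exact (∑ l, V a l * T⁻¹ l i).2
    · rw [mul_zero]; exact Subalgebra.zero_mem _

/-- A torsion-free module of rank `n` is a lattice between the standard ones. -/
theorem exists_lattice (hdim : ringKrullDim O = 1) [IsAlgClosed (ResidueField O)]
    (hfin : Module.Finite O ↥(integralClosure O K)) (M : Type u) [AddCommGroup M] [Module O M] [Module.Finite O M]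
    [NoZeroSMulDivisors O M] (n : ℕ) (hn : Module.finrank K (K ⊗[O] M) = n) :
    ∃ M' : Submodule O (Fin n → K), Submodule.pi Set.univ (fun _ : Fin n => (1 : Submodule O K)) ≤ M' ∧
      M' ≤ Submodule.pi Set.univ (fun _ : Fin n => Subalgebra.toSubmodule (integralClosure O K)) ∧
      Nonempty (M ≃ₗ[O] ↥M') := by
  let e : (K ⊗[O] M) ≃ₗ[K] (Fin n → K) := (Module.finBasisOfFinrankEq K (K ⊗[O] M) hn).equivFun
  let f : M →ₗ[O] (Fin n → K) := (e.toLinearMap.restrictScalars O).comp (TensorProduct.mk O K M 1)
  have hinj : Function.Injective f := e.injective.comp (by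
    intro a b hab
    obtain ⟨c, hc⟩ := (IsLocalizedModule.eq_iff_exists (nonZeroDivisors O) (TensorProduct.mk O K M 1)).1 hab
    exact smul_right_injective M (nonZeroDivisors.ne_zero c.2) hc)
  have hspan : Submodule.span K (LinearMap.range f : Set (Fin n → K)) = ⊤ := by
    refine eq_top_iff.2 fun x _ => ?_
    rw [← e.apply_symm_apply x]
    generalize e.symm x = y
    induction y using TensorProduct.induction_on with
    | zero => rw [map_zero]; exact Submodule.zero_mem _
    | tmul c m =>
      rw [show c ⊗ₜ[O] m = c • ((1 : K) ⊗ₜ[O] m) by rw [TensorProduct.smul_tmul', smul_eq_mul, mul_one], map_smul]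
      exact Submodule.smul_mem _ _ (Submodule.subset_span ⟨m, rfl⟩)
    | add a b ha hb => rw [map_add]; exact Submodule.add_mem _ ha hb
  obtain ⟨ψ, h1, h2⟩ := exists_frame hdim hfin (LinearMap.range f) (LinearMap.range_eq_map f ▸ (Module.Finite.fg_top.map f)) hspan
  exact ⟨_, h1, h2, ⟨(LinearEquiv.ofInjective f hinj).trans
    ((ψ.restrictScalars O).submoduleMap (LinearMap.range f))⟩⟩

/-- The number of generators is bounded by rank times multiplicity. -/
theorem spanFinrank_le (hdim : ringKrullDim O = 1) [IsAlgClosed (ResidueField O)]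
    (hfin : Module.Finite O ↥(integralClosure O K)) (M : Type u) [AddCommGroup M] [Module O M] [Module.Finite O M]
    [NoZeroSMulDivisors O M] (n : ℕ) (hn : Module.finrank K (K ⊗[O] M) = n) :
    ((⊤ : Submodule O M).spanFinrank : ℕ∞) ≤ (n : ℕ∞) * Module.length O
      (↥(integralClosure O K) ⧸ (maximalIdeal O) • (⊤ : Submodule O ↥(integralClosure O K))) := by
  classical
  obtain ⟨hdom, hpid⟩ := isPID_integralClosure (K := K) hdim hfin
  haveI := hfin; haveI := hdom; haveI := hpid
  let B := ↥(integralClosure O K)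
  have hinjB : Function.Injective (algebraMap O B) := fun a b h =>
    IsFractionRing.injective O K (congrArg Subtype.val h)
  -- a generator of `m B` in `m`
  obtain ⟨s, a, ha⟩ := Submodule.fg_iff_exists_fin_generating_family.1 (maximalIdeal O).fg_of_isNoetherianRing
  let γ := Submodule.IsPrincipal.generator ((maximalIdeal O).map (algebraMap O B))
  have hγ : Ideal.span {γ} = (maximalIdeal O).map (algebraMap O B) := Ideal.span_singleton_generator _
  have haγ : ∀ i, ∃ v, algebraMap O B (a i) = γ * v := fun i => Ideal.mem_span_singleton.1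
    (hγ ▸ Ideal.mem_map_of_mem _ (ha ▸ Submodule.subset_span ⟨i, rfl⟩))
  choose v hv using haγ
  have hγ0 : γ ≠ 0 := fun h => by
    have hne : maximalIdeal O ≠ ⊥ := fun hb => by
      rw [ringKrullDim_eq_zero_of_isField (IsLocalRing.isField_iff_maximalIdeal_eq.2 hb)] at hdim
      exact zero_ne_one hdim
    obtain ⟨z, hz, hz0⟩ := Submodule.exists_mem_ne_zero_of_ne_bot hne
    have h1 : algebraMap O B z ∈ Ideal.span {γ} := hγ ▸ Ideal.mem_map_of_mem _ hz
    rw [h, Ideal.mem_span_singleton, zero_dvd_iff] at h1
    exact hz0 (hinjB (h1.trans (map_zero _).symm))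
  have hvspan : ∃ d : Fin s → B, ∑ i, d i * v i = 1 := by
    have h1 : γ ∈ Submodule.span B (Set.range fun i => algebraMap O B (a i)) := by
      rw [show (Submodule.span B (Set.range fun i => algebraMap O B (a i))) = (maximalIdeal O).map (algebraMap O B) from ?_]
      · exact hγ ▸ Ideal.mem_span_singleton_self γ
      · rw [← ha, show Submodule.span O (Set.range a) = Ideal.span (Set.range a) from rfl, Ideal.map_span,
          ← Set.range_comp]
        rfl
    obtain ⟨d, hd⟩ := (Submodule.mem_span_range_iff_exists_fun B).1 h1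
    refine ⟨d, mul_left_cancel₀ hγ0 ?_⟩
    rw [mul_one, Finset.mul_sum]
    conv_rhs => rw [← hd]
    exact Finset.sum_congr rfl fun i _ => by rw [smul_eq_mul, hv]; ring
  obtain ⟨d, hd⟩ := hvspan
  obtain ⟨C, hC⟩ := exists_isUnit_det (O := O) (Matrix.of fun i (_ : Fin 1) => v i) (Matrix.of fun (_ : Fin 1) i => d i)
    (by ext i j; fin_cases i; fin_cases j; simpa [Matrix.mul_apply] using hd)
  let x : O := ∑ i, C 0 i * a i
  have hxm : x ∈ maximalIdeal O := Ideal.sum_mem _ fun i _ => Ideal.mul_mem_left _ _ (ha ▸ Submodule.subset_span ⟨i, rfl⟩)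
  obtain ⟨w, hw, hxw⟩ : ∃ w : B, IsUnit w ∧ algebraMap O B x = γ * w := by
    refine ⟨_, hC, ?_⟩
    rw [Matrix.det_unique]
    simp only [x, map_sum, map_mul, hv, Finset.mul_sum, Matrix.mul_apply, Matrix.map_apply, Matrix.of_apply,
      Fin.default_eq_zero]
    exact Finset.sum_congr rfl fun i _ => by ring
  have hxB : ∀ z : B, z ∈ maximalIdeal O • (⊤ : Submodule O B) ↔ ∃ y : B, x • y = z := by
    intro z
    constructor
    · intro hz
      rw [Ideal.smul_top_eq_map, Submodule.restrictScalars_mem, ← hγ, Ideal.mem_span_singleton] at hz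
      obtain ⟨y, rfl⟩ := hz
      refine ⟨↑hw.unit⁻¹ * y, ?_⟩
      rw [Algebra.smul_def, hxw, mul_assoc, ← mul_assoc w, IsUnit.mul_val_inv, one_mul]
    · rintro ⟨y, rfl⟩
      exact Submodule.smul_mem_smul hxm trivial
  have hx0 : x ≠ 0 := fun h => by
    rw [h, map_zero] at hxw
    exact (mul_ne_zero hγ0 hw.ne_zero) hxw.symm
  -- the lattice
  obtain ⟨M', hM1, hM2, ⟨φ⟩⟩ := exists_lattice hdim hfin M n hn
  let M₁ := ↥(⊤ : Submodule O M)
  let L := Fin n → B
  let ι : L →ₗ[O] (Fin n → K) := LinearMap.pi fun i => (integralClosure O K).val.toLinearMap.comp (LinearMap.proj i)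
  have hι : Function.Injective ι := fun p q h => funext fun i => Subtype.ext (congrFun h i)
  have hmem : ∀ m : M₁, ∃ l : L, ι l = (φ m.1 : Fin n → K) := fun m =>
    ⟨fun i => ⟨(φ m.1 : Fin n → K) i, Submodule.mem_pi.1 (hM2 (φ m.1).2) i trivial⟩, rfl⟩
  choose f hf using hmem
  let F : M₁ →ₗ[O] L :=
    { toFun := f
      map_add' := fun p q => hι (by rw [map_add, hf, hf, hf, Submodule.coe_add, map_add]; rfl)
      map_smul' := fun c p => hι (by rw [map_smul, hf, hf, Submodule.coe_smul, map_smul]; rfl) }
  have hF : Function.Injective F := fun p q h => Subtype.ext (φ.injective (Subtype.ext (by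
    rw [← hf p, ← hf q]; exact congrArg ι h)))
  haveI : Ring.KrullDimLE 1 O := Ring.krullDimLE_iff.2 (by rw [hdim]; simp)
  have hfinQ : Module.length O (L ⧸ LinearMap.range F) ≠ ⊤ := by
    -- a common denominator
    obtain ⟨S, hS⟩ := hfin.fg_top
    obtain ⟨c, hc⟩ := IsLocalization.exist_integer_multiples_of_finset (nonZeroDivisors O) (S.image fun b : B => (b : K))
    have hcB : ∀ b : B, ∃ o : O, algebraMap O B o = (c : O) • b := by
      intro b
      have hb : b ∈ Submodule.span O (S : Set B) := hS ▸ trivial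
      induction hb using Submodule.span_induction with
      | mem b hb =>
        obtain ⟨o, ho⟩ := hc (b : K) (Finset.mem_image_of_mem _ hb)
        exact ⟨o, Subtype.ext ho⟩
      | zero => exact ⟨0, by rw [map_zero, smul_zero]⟩
      | add p q _ _ hp hq =>
        obtain ⟨o, ho⟩ := hp; obtain ⟨o', ho'⟩ := hq
        exact ⟨o + o', by rw [map_add, ho, ho', smul_add]⟩
      | smul r p _ hp =>
        obtain ⟨o, ho⟩ := hp
        exact ⟨r * o, by rw [map_mul, ho, Algebra.smul_def, Algebra.smul_def, Algebra.smul_def]; ring⟩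
    have hcL : ∀ l : L, (c : O) • l ∈ LinearMap.range F := fun l => by
      choose o ho using fun i => hcB (l i)
      have hmemM : (fun i => algebraMap O K (o i)) ∈ M' := hM1 (Submodule.mem_pi.2 fun i _ => Submodule.mem_one.2 ⟨o i, rfl⟩)
      refine ⟨⟨φ.symm ⟨_, hmemM⟩, trivial⟩, hι ?_⟩
      show ι (f _) = _
      rw [hf, φ.apply_symm_apply]
      funext i
      exact congrArg Subtype.val (ho i)
    obtain ⟨t, p, hp⟩ := Module.Finite.exists_fin' O L
    have hlin : Function.Surjective ((LinearMap.range F).mkQ.comp p) := (Submodule.mkQ_surjective _).comp hp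
    let I : Ideal O := Ideal.span {(c : O)}
    let π : (Fin t → O) →ₗ[O] (Fin t → O ⧸ I) := LinearMap.pi fun i => I.mkQ.comp (LinearMap.proj i)
    have hker : LinearMap.ker π ≤ LinearMap.ker ((LinearMap.range F).mkQ.comp p) := by
      intro z hz
      have hz' : ∀ i, z i ∈ I := fun i => (Submodule.Quotient.mk_eq_zero I).1 (congrFun hz i)
      choose w hw using fun i => Ideal.mem_span_singleton.1 (hz' i)
      rw [LinearMap.mem_ker, LinearMap.comp_apply, Submodule.mkQ_apply, Submodule.Quotient.mk_eq_zero,
        show z = (c : O) • w from funext fun i => hw i, map_smul]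
      exact hcL _
    have hπ : Function.Surjective π := fun z => by
      choose w hw using fun i => Submodule.mkQ_surjective I (z i)
      exact ⟨w, funext hw⟩
    have hle : Module.length O (L ⧸ LinearMap.range F) ≤ Module.length O (Fin t → O ⧸ I) :=
      Module.length_le_of_surjective (((LinearMap.ker π).liftQ _ hker).comp
        (LinearMap.quotKerEquivOfSurjective π hπ).symm.toLinearMap) (fun y => by
          obtain ⟨z, rfl⟩ := hlin y
          refine ⟨LinearMap.quotKerEquivOfSurjective π hπ (Submodule.Quotient.mk z), ?_⟩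
          rw [LinearMap.comp_apply, LinearEquiv.coe_coe, LinearEquiv.symm_apply_apply]
          rfl)
    refine ne_top_of_le_ne_top ?_ hle
    rw [Module.length_pi_of_fintype]
    refine WithTop.sum_ne_top.2 fun i _ => ?_
    exact Module.length_ne_top_iff.2 (isFiniteLength_quotient_span_singleton O c.2)
  -- comparison of the two lengths
  let μ : L →ₗ[O] L := x • LinearMap.id
  let XM := LinearMap.range (μ.comp F)
  let XL := LinearMap.range μ
  have e1 : Module.length O (L ⧸ XM) = Module.length O (L ⧸ LinearMap.range F) + Module.length O (L ⧸ XL) := by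
    refine Module.length_eq_add_of_exact ((LinearMap.range F).mapQ XM μ ?_)
      (Submodule.factor (show XM ≤ XL from LinearMap.range_comp_le_range _ _)) ?_ (Submodule.factor_surjective _) ?_
    · rintro _ ⟨m, rfl⟩; exact ⟨m, rfl⟩
    · intro p q
      obtain ⟨p, rfl⟩ := Submodule.Quotient.mk_surjective _ p
      obtain ⟨q, rfl⟩ := Submodule.Quotient.mk_surjective _ q
      rw [Submodule.mapQ_apply, Submodule.mapQ_apply, Submodule.Quotient.eq, Submodule.Quotient.eq, ← map_sub]
      rintro ⟨m, hm⟩
      exact ⟨m, smul_right_injective L hx0 hm⟩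
    · intro y
      obtain ⟨y, rfl⟩ := Submodule.Quotient.mk_surjective _ y
      constructor
      · intro h
        obtain ⟨z, rfl⟩ := (Submodule.Quotient.mk_eq_zero _).1 (show Submodule.Quotient.mk y = (0 : L ⧸ XL) from h)
        exact ⟨Submodule.Quotient.mk z, rfl⟩
      · rintro ⟨z, hz⟩
        obtain ⟨z, rfl⟩ := Submodule.Quotient.mk_surjective _ z
        rw [← hz]
        exact (Submodule.Quotient.mk_eq_zero _).2 ⟨z, rfl⟩
  let XM₁ : Submodule O M₁ := LinearMap.range (x • LinearMap.id)
  have e2 : Module.length O (L ⧸ XM) = Module.length O (M₁ ⧸ XM₁) + Module.length O (L ⧸ LinearMap.range F) := by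
    refine Module.length_eq_add_of_exact (XM₁.mapQ XM F ?_)
      (Submodule.factor (show XM ≤ LinearMap.range F from ?_)) ?_ (Submodule.factor_surjective _) ?_
    · rintro _ ⟨m, rfl⟩; exact ⟨m, (map_smul F x m).symm⟩
    · rintro _ ⟨m, rfl⟩; exact ⟨x • m, map_smul F x m⟩
    · intro p q
      obtain ⟨p, rfl⟩ := Submodule.Quotient.mk_surjective _ p
      obtain ⟨q, rfl⟩ := Submodule.Quotient.mk_surjective _ q
      rw [Submodule.mapQ_apply, Submodule.mapQ_apply, Submodule.Quotient.eq, Submodule.Quotient.eq, ← map_sub]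
      rintro ⟨m, hm⟩
      exact ⟨m, hF ((map_smul F x m).trans hm)⟩
    · intro y
      obtain ⟨y, rfl⟩ := Submodule.Quotient.mk_surjective _ y
      constructor
      · intro h
        obtain ⟨z, rfl⟩ := (Submodule.Quotient.mk_eq_zero _).1
          (show Submodule.Quotient.mk y = (0 : L ⧸ LinearMap.range F) from h)
        exact ⟨Submodule.Quotient.mk z, rfl⟩
      · rintro ⟨z, hz⟩
        obtain ⟨z, rfl⟩ := Submodule.Quotient.mk_surjective _ z
        rw [← hz]
        exact (Submodule.Quotient.mk_eq_zero _).2 ⟨z, rfl⟩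
  have e3 : Module.length O (L ⧸ XL) = (n : ℕ∞) * Module.length O (B ⧸ (maximalIdeal O) • (⊤ : Submodule O B)) := by
    let π : L →ₗ[O] (Fin n → B ⧸ (maximalIdeal O) • (⊤ : Submodule O B)) :=
      LinearMap.pi fun i => ((maximalIdeal O) • (⊤ : Submodule O B)).mkQ.comp (LinearMap.proj i)
    have hπ : Function.Surjective π := fun z => by
      choose w hw using fun i => Submodule.mkQ_surjective _ (z i)
      exact ⟨w, funext hw⟩
    have hker : LinearMap.ker π = XL := by
      ext z
      constructor
      · intro hz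
        choose y hy using fun i => (hxB (z i)).1 ((Submodule.Quotient.mk_eq_zero _).1 (congrFun hz i))
        exact ⟨y, funext hy⟩
      · rintro ⟨y, rfl⟩
        exact funext fun i => (Submodule.Quotient.mk_eq_zero _).2 ((hxB _).2 ⟨y i, rfl⟩)
    rw [← hker, (LinearMap.quotKerEquivOfSurjective π hπ).length_eq, Module.length_pi_of_fintype]
    simp [B, nsmul_eq_mul]
  have e4 : Module.length O (M₁ ⧸ XM₁) = (n : ℕ∞) * Module.length O (B ⧸ (maximalIdeal O) • (⊤ : Submodule O B)) := by
    rw [← e3]
    rw [e1, add_comm] at e2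
    exact (WithTop.add_right_cancel hfinQ e2).symm
  refine le_trans ?_ e4.le
  rw [IsLocalRing.spanFinrank_eq_finrank_quotient (⊤ : Submodule O M) Module.Finite.fg_top]
  letI : Field (O ⧸ maximalIdeal O) := Ideal.Quotient.field _
  rw [← Module.length_eq_finrank (K := O ⧸ maximalIdeal O),
    ← Module.length_eq_of_surjective (R := O ⧸ maximalIdeal O) (S := O) Ideal.Quotient.mk_surjective]
  refine Module.length_le_of_surjective (Submodule.factor (show XM₁ ≤ (maximalIdeal O) • (⊤ : Submodule O M₁) from ?_))
    (Submodule.factor_surjective _)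
  rintro _ ⟨m, rfl⟩
  exact Submodule.smul_mem_smul hxm trivial

/-- Isomorphisms of lattices are given by invertible matrices over the normalisation. -/
theorem exists_matrix_of_equiv (n : ℕ) (M N : Submodule O (Fin n → K))
    (hM1 : Submodule.pi Set.univ (fun _ : Fin n => (1 : Submodule O K)) ≤ M)
    (hM2 : M ≤ Submodule.pi Set.univ (fun _ : Fin n => (Subalgebra.toSubmodule (integralClosure O K))))
    (hN1 : Submodule.pi Set.univ (fun _ : Fin n => (1 : Submodule O K)) ≤ N)
    (hN2 : N ≤ Submodule.pi Set.univ (fun _ : Fin n => (Subalgebra.toSubmodule (integralClosure O K))))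
    (φ : ↥M ≃ₗ[O] ↥N) : ∃ A : Matrix (Fin n) (Fin n) ↥(integralClosure O K), IsUnit A ∧
      ∀ x : ↥M, ((φ x : ↥N) : Fin n → K) = (A.map (algebraMap ↥(integralClosure O K) K)).mulVec (x : Fin n → K) := by
  classical
  suffices key : ∀ (M N : Submodule O (Fin n → K)),
      Submodule.pi Set.univ (fun _ : Fin n => (1 : Submodule O K)) ≤ M →
      M ≤ Submodule.pi Set.univ (fun _ : Fin n => (Subalgebra.toSubmodule (integralClosure O K))) →
      N ≤ Submodule.pi Set.univ (fun _ : Fin n => (Subalgebra.toSubmodule (integralClosure O K))) →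
      ∀ φ : ↥M →ₗ[O] ↥N, ∃ A : Matrix (Fin n) (Fin n) ↥(integralClosure O K), ∀ x : ↥M,
        ((φ x : ↥N) : Fin n → K) = (A.map (algebraMap ↥(integralClosure O K) K)).mulVec (x : Fin n → K) by
    obtain ⟨A, hA⟩ := key M N hM1 hM2 hN2 φ.toLinearMap
    obtain ⟨A', hA'⟩ := key N M hN1 hN2 hM2 φ.symm.toLinearMap
    refine ⟨A, (Matrix.isUnit_iff_isUnit_det A).2 (Matrix.isUnit_det_of_left_inverse (B := A') ?_), hA⟩
    refine Matrix.map_injective (f := algebraMap ↥(integralClosure O K) K) Subtype.val_injective ?_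
    show (A' * A).map _ = (1 : Matrix (Fin n) (Fin n) ↥(integralClosure O K)).map _
    rw [Matrix.map_mul, Matrix.map_one _ (map_zero _) (map_one _), ← Matrix.toLin'.injective.eq_iff, Matrix.toLin'_one]
    refine LinearMap.pi_ext' fun i => LinearMap.ext_ring ?_
    have hmem : (Pi.single i 1 : Fin n → K) ∈ M := hM1 (Submodule.mem_pi.2 fun j _ => Submodule.mem_one.2
      ⟨if j = i then 1 else 0, by simp [Pi.single_apply]⟩)
    have h := hA' (φ ⟨_, hmem⟩)
    rw [LinearEquiv.coe_coe, φ.symm_apply_apply] at h
    have h1 := hA ⟨_, hmem⟩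
    rw [LinearEquiv.coe_coe] at h1
    rw [h1, Matrix.mulVec_mulVec] at h
    simp only [LinearMap.comp_apply, LinearMap.single_apply, Matrix.toLin'_apply, LinearMap.id_apply]
    exact h.symm
  intro M N hM1 hM2 hN2 φ
  have hmem : ∀ i : Fin n, (Pi.single i 1 : Fin n → K) ∈ M := fun i => hM1 (Submodule.mem_pi.2 fun j _ =>
    Submodule.mem_one.2 ⟨if j = i then 1 else 0, by simp [Pi.single_apply]⟩)
  let A : Matrix (Fin n) (Fin n) ↥(integralClosure O K) := Matrix.of fun j i =>
    ⟨(φ ⟨_, hmem i⟩ : Fin n → K) j, Submodule.mem_pi.1 (hN2 (φ ⟨_, hmem i⟩).2) j trivial⟩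
  refine ⟨A, fun x => ?_⟩
  obtain ⟨c, hc⟩ := IsLocalization.exist_integer_multiples_of_finset (nonZeroDivisors O)
    (Finset.univ.image fun i => (x : Fin n → K) i)
  choose o ho using fun i => hc ((x : Fin n → K) i) (Finset.mem_image_of_mem _ (Finset.mem_univ i))
  have hcx : (c : O) • x = ∑ i, o i • (⟨_, hmem i⟩ : ↥M) := Subtype.ext (funext fun j => by
    simp [Submodule.coe_sum, Finset.sum_apply, Pi.single_apply, Algebra.smul_def, ho])
  refine smul_right_injective (Fin n → K) (nonZeroDivisors.ne_zero c.2) ?_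
  show (c : O) • _ = (c : O) • _
  rw [← Submodule.coe_smul, ← map_smul, ← Matrix.mulVec_smul, ← Submodule.coe_smul, hcx, map_sum]
  simp only [map_smul, Submodule.coe_sum, Submodule.coe_smul, Matrix.mulVec_sum, Matrix.mulVec_smul]
  refine Finset.sum_congr rfl fun i _ => congrArg _ ?_
  funext j
  simp [A]

end Groth.Agent.TFLat17
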